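import Cfsg.Agent.EqLemmas

/-!
# Counting normalized `p`-subgroups above a given one

* `mu p X g H` : Möbius weight of `H` among the `g`-invariant `p`-subgroups of `X` above it.
* `sum_mu` : the weights sum to `1` whenever some such subgroup exists.
* `sum_mu_normalizer` : `∑ g ∈ N_X(H), mu p X g H` is `#N_X(H)` for a maximal `p`-subgroup `H` of `X`, else `0`.
* `count_invariant` : `#{g | some p-subgroup containing H is normalized by g} = #{Sylow ⊇ H} * #N(P)`.
-/

set_option autoImplicit false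
set_option linter.style.haveILetI false
set_option linter.unusedSectionVars false

open scoped Classical

namespace Cfsg.Agent.SubnormalizerCount

variable {G : Type*} [Group G] [Finite G] {p : ℕ}

/-- `g`-invariant `p`-subgroups of `X` containing `H`. -/
noncomputable def above (p : ℕ) (X : Subgroup G) (g : G) (H : Subgroup G) : Finset (Subgroup G) :=
  (Set.toFinite {L : Subgroup G | H ≤ L ∧ L ≤ X ∧ IsPGroup p L ∧ g ∈ Subgroup.normalizer (L : Set G)}).toFinset

theorem mem_above {X : Subgroup G} {g : G} {H L : Subgroup G} :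
    L ∈ above p X g H ↔ H ≤ L ∧ L ≤ X ∧ IsPGroup p L ∧ g ∈ Subgroup.normalizer (L : Set G) := by
  simp [above]

theorem card_lt_of_lt {H L : Subgroup G} (h : H < L) : Nat.card G - Nat.card L < Nat.card G - Nat.card H := by
  have h1 : Nat.card H < Nat.card L := by
    refine lt_of_le_of_ne (Subgroup.card_le_of_le h.le) fun e => h.ne ?_
    exact Subgroup.eq_of_le_of_card_ge h.le e.ge
  have h2 : Nat.card L ≤ Nat.card G := Subgroup.card_le_card_group L
  omega

/-- The weight. -/
noncomputable def mu (p : ℕ) (X : Subgroup G) (g : G) (H : Subgroup G) : ℤ :=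
  1 - ∑ L ∈ ((above p X g H).erase H).attach, mu p X g L.1
termination_by Nat.card G - Nat.card H
decreasing_by
  have h := Finset.mem_erase.1 L.2
  exact card_lt_of_lt (lt_of_le_of_ne (mem_above.1 h.2).1 h.1.symm)

theorem mu_eq (X : Subgroup G) (g : G) (H : Subgroup G) :
    mu p X g H = 1 - ∑ L ∈ (above p X g H).erase H, mu p X g L := by
  rw [mu, Finset.sum_attach _ fun L => mu p X g L]

/-- The weights above sum to one. -/
theorem sum_mu_self {X : Subgroup G} {g : G} {H : Subgroup G} (hHX : H ≤ X) (hH : IsPGroup p H)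
    (hg : g ∈ Subgroup.normalizer (H : Set G)) : ∑ L ∈ above p X g H, mu p X g L = 1 := by
  rw [← Finset.add_sum_erase _ _ (mem_above.2 ⟨le_rfl, hHX, hH, hg⟩), mu_eq X g H]
  ring

theorem sum_mu {X : Subgroup G} {g : G} {H : Subgroup G} (h : (above p X g H).Nonempty) :
    ∑ L ∈ above p X g H, mu p X g L = 1 := by
  obtain ⟨L₀, hL₀⟩ := h
  obtain ⟨-, hX, hp, -⟩ := mem_above.1 hL₀
  set K : Subgroup G := ⨅ (L : Subgroup G) (_ : L ∈ above p X g H), L with hK
  have hHK : H ≤ K := le_iInf₂ fun L hL => (mem_above.1 hL).1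
  have hKL : ∀ L ∈ above p X g H, K ≤ L := fun L hL => iInf₂_le L hL
  have hgK : g ∈ Subgroup.normalizer (K : Set G) := by
    refine Subgroup.mem_normalizer_iff.2 fun x => ?_
    simp only [hK, SetLike.mem_coe, Subgroup.mem_iInf]
    exact forall₂_congr fun L hL => Subgroup.mem_normalizer_iff.1 (mem_above.1 hL).2.2.2 x
  have heq : above p X g H = above p X g K := by
    ext L
    refine ⟨fun hL => mem_above.2 ⟨hKL L hL, (mem_above.1 hL).2⟩, fun hL => mem_above.2 ⟨hHK.trans ?_, (mem_above.1 hL).2⟩⟩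
    exact (mem_above.1 hL).1
  rw [heq]
  exact sum_mu_self ((hKL _ hL₀).trans hX) (hp.to_le (hKL _ hL₀)) hgK

/-- `H` is a maximal `p`-subgroup of `X`. -/
def IsMaxP (p : ℕ) (X H : Subgroup G) : Prop := ∀ L : Subgroup G, H ≤ L → L ≤ X → IsPGroup p L → L = H

variable [Fact p.Prime]

theorem lt_inf_normalizer {H L : Subgroup G} (hL : IsPGroup p L) (h : H < L) :
    H < L ⊓ Subgroup.normalizer (H : Set G) := by
  haveI := hL.isNilpotent
  refine lt_of_le_of_ne (le_inf h.le Subgroup.le_normalizer) fun e => ?_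
  have hlt : H.subgroupOf L < ⊤ := by
    rw [lt_top_iff_ne_top, Ne, Subgroup.subgroupOf_eq_top]
    exact fun hle => h.not_ge hle
  obtain ⟨x, hx, hxH⟩ := SetLike.exists_of_lt (Group.normalizerCondition_of_isNilpotent _ hlt)
  refine hxH (e.ge ⟨x.2, Subgroup.mem_normalizer_iff.2 fun a => ⟨fun ha => ?_, fun ha => ?_⟩⟩)
  · exact (Subgroup.mem_normalizer_iff.1 hx ⟨a, h.le ha⟩).1 ha
  · have haL : a ∈ L := by
      have h1 := L.mul_mem (L.mul_mem (L.inv_mem x.2) (h.le ha)) x.2
      simpa [mul_assoc] using h1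
    exact (Subgroup.mem_normalizer_iff.1 hx ⟨a, haL⟩).2 ha

/-- Retraction onto the normalizer. -/
theorem mu_inf_normalizer {X H : Subgroup G} {g : G} (hHX : H ≤ X) (hH : IsPGroup p H)
    (hg : g ∈ X ⊓ Subgroup.normalizer (H : Set G)) :
    mu p (X ⊓ Subgroup.normalizer (H : Set G)) g H = mu p X g H := by
  set N := Subgroup.normalizer (H : Set G) with hN
  set Y := X ⊓ N with hY
  have hgN : g ∈ Subgroup.normalizer (N : Set G) := Subgroup.le_normalizer hg.2
  have key : ∀ k : ℕ, ∀ R : Subgroup G, Nat.card G - Nat.card R = k → R ∈ above p Y g H →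
      (∑ L ∈ (above p X g H).filter (fun L => L ⊓ N = R), mu p X g L) = mu p Y g R := by
    intro k
    induction k using Nat.strong_induction_on with
    | _ k ih =>
      intro R hk hR
      obtain ⟨hHR, hRY, hRp, hgR⟩ := mem_above.1 hR
      have hmap : ∀ L ∈ above p X g R, L ⊓ N ∈ above p Y g R := by
        intro L hL
        obtain ⟨hRL, hLX, hLp, hgL⟩ := mem_above.1 hL
        refine mem_above.2 ⟨le_inf hRL (hRY.trans inf_le_right), inf_le_inf_right _ hLX, hLp.to_le inf_le_left, ?_⟩
        refine Subgroup.mem_normalizer_iff.2 fun x => ?_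
        simp only [SetLike.mem_coe, Subgroup.mem_inf]
        exact and_congr (Subgroup.mem_normalizer_iff.1 hgL x) (Subgroup.mem_normalizer_iff.1 hgN x)
      have h1 := sum_mu_self (p := p) (hRY.trans inf_le_left) hRp hgR
      rw [← Finset.sum_fiberwise_of_maps_to hmap] at h1
      have hfib : ∀ R' ∈ above p Y g R,
          (above p X g R).filter (fun L => L ⊓ N = R') = (above p X g H).filter (fun L => L ⊓ N = R') := by
        intro R' hR'
        ext L
        simp only [Finset.mem_filter, mem_above]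
        constructor
        · rintro ⟨⟨h2, h3⟩, h4⟩
          exact ⟨⟨hHR.trans h2, h3⟩, h4⟩
        · rintro ⟨⟨-, h3⟩, h4⟩
          exact ⟨⟨((mem_above.1 hR').1.trans h4.ge).trans inf_le_left, h3⟩, h4⟩
      rw [Finset.sum_congr rfl fun R' hR' => by rw [hfib R' hR']] at h1
      have hRmem : R ∈ above p Y g R := mem_above.2 ⟨le_rfl, hRY, hRp, hgR⟩
      have h2 := sum_mu_self (p := p) hRY hRp hgR
      rw [← Finset.add_sum_erase _ _ hRmem] at h1 h2
      have h3 : ∀ R' ∈ (above p Y g R).erase R,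
          (∑ L ∈ (above p X g H).filter (fun L => L ⊓ N = R'), mu p X g L) = mu p Y g R' := by
        intro R' hR'
        obtain ⟨hne, hR''⟩ := Finset.mem_erase.1 hR'
        obtain ⟨h4, h5⟩ := mem_above.1 hR''
        exact ih _ (hk ▸ card_lt_of_lt (lt_of_le_of_ne h4 hne.symm)) R' rfl (mem_above.2 ⟨hHR.trans h4, h5⟩)
      rw [Finset.sum_congr rfl h3] at h1
      linarith
  rw [← key _ H rfl (mem_above.2 ⟨le_rfl, le_inf hHX Subgroup.le_normalizer, hH, hg.2⟩)]
  have hsingle : (above p X g H).filter (fun L => L ⊓ N = H) = {H} := by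
    ext L
    simp only [Finset.mem_filter, mem_above, Finset.mem_singleton]
    constructor
    · rintro ⟨⟨hHL, -, hLp, -⟩, he⟩
      by_contra hne
      exact (lt_inf_normalizer hLp (lt_of_le_of_ne hHL (Ne.symm hne))).ne he.symm
    · rintro rfl
      exact ⟨⟨le_rfl, hHX, hH, hg.2⟩, inf_eq_left.2 Subgroup.le_normalizer⟩
  rw [hsingle, Finset.sum_singleton]

/-- The maximal `p`-subgroups of `X`. -/
noncomputable def maxSet (p : ℕ) (X : Subgroup G) : Finset (Subgroup G) :=
  (Set.toFinite {R : Subgroup G | R ≤ X ∧ IsPGroup p R ∧ IsMaxP p X R}).toFinset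

theorem mem_maxSet {X R : Subgroup G} : R ∈ maxSet p X ↔ R ≤ X ∧ IsPGroup p R ∧ IsMaxP p X R := by
  simp [maxSet]

theorem maxSet_eq_image (X : Subgroup G) :
    maxSet p X = (Set.toFinite (Set.range fun Q : Sylow p X => (Q : Subgroup X).map X.subtype)).toFinset := by
  ext R
  simp only [mem_maxSet, Set.Finite.mem_toFinset, Set.mem_range]
  constructor
  · rintro ⟨hRX, hRp, hmax⟩
    obtain ⟨Q, hQ⟩ := (hRp.comap_of_injective X.subtype X.subtype_injective).exists_le_sylow
    refine ⟨Q, hmax _ (fun r hr => ⟨⟨r, hRX hr⟩, hQ hr, rfl⟩) (Subgroup.map_subtype_le _) (Q.isPGroup'.map X.subtype)⟩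
  · rintro ⟨Q, rfl⟩
    refine ⟨Subgroup.map_subtype_le _, Q.isPGroup'.map X.subtype, fun L hL hLX hLp => ?_⟩
    have h := Q.3 (hLp.comap_of_injective X.subtype X.subtype_injective) (Subgroup.map_le_iff_le_comap.1 hL)
    rw [← h, Subgroup.map_comap_eq, Subgroup.range_subtype, inf_eq_right.2 hLX]

theorem card_maxSet (X : Subgroup G) : (maxSet p X).card = Nat.card (Sylow p X) := by
  rw [maxSet_eq_image, ← Nat.card_eq_card_finite_toFinset]
  exact (Nat.card_congr (Equiv.ofInjective _ fun Q Q' h =>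
    Sylow.ext (Subgroup.map_injective X.subtype_injective h))).symm

theorem maxSet_mul {X R : Subgroup G} (hR : R ∈ maxSet p X) :
    Nat.card (Sylow p X) * Nat.card ↥(X ⊓ Subgroup.normalizer (R : Set G)) = Nat.card X := by
  rw [maxSet_eq_image, Set.Finite.mem_toFinset] at hR
  obtain ⟨Q, rfl⟩ := hR
  rw [Q.card_eq_index_normalizer, ← Subgroup.index_mul_card (Subgroup.normalizer ((Q : Subgroup X) : Set X))]
  congr 1
  refine Nat.card_congr
    { toFun := fun x => ⟨⟨x.1, x.2.1⟩, Subgroup.mem_normalizer_iff.2 fun a => ?_⟩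
      invFun := fun y => ⟨y.1.1, y.1.2, Subgroup.mem_normalizer_iff.2 fun a => ?_⟩
      left_inv := fun _ => rfl
      right_inv := fun _ => rfl }
  · have h := Subgroup.mem_normalizer_iff.1 x.2.2 (a : G)
    simp only [SetLike.mem_coe, Subgroup.mem_map, Subgroup.coe_subtype] at h
    refine ⟨fun ha => ?_, fun ha => ?_⟩
    · obtain ⟨b, hb, he⟩ := h.1 ⟨a, ha, rfl⟩
      have : b = ⟨x.1, x.2.1⟩ * a * (⟨x.1, x.2.1⟩ : X)⁻¹ := Subtype.ext (by simpa using he)
      exact this ▸ hb
    · obtain ⟨b, hb, he⟩ := h.2 ⟨_, ha, rfl⟩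
      exact (Subtype.ext he : b = a) ▸ hb
  · simp only [SetLike.mem_coe, Subgroup.mem_map, Subgroup.coe_subtype]
    constructor
    · rintro ⟨b, hb, rfl⟩
      exact ⟨_, (Subgroup.mem_normalizer_iff.1 y.2 b).1 hb, rfl⟩
    · rintro ⟨b, hb, he⟩
      have haX : a ∈ X := by
        have h1 := X.mul_mem (X.mul_mem (X.inv_mem y.1.2) (he ▸ b.2)) y.1.2
        simpa [mul_assoc] using h1
      refine ⟨⟨a, haX⟩, (Subgroup.mem_normalizer_iff.1 y.2 ⟨a, haX⟩).2 ?_, rfl⟩
      have : b = y.1 * ⟨a, haX⟩ * (y.1)⁻¹ := Subtype.ext (by simpa using he)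
      exact this ▸ hb

theorem sum_card_normalizer (X : Subgroup G) :
    (∑ R ∈ maxSet p X, Nat.card ↥(X ⊓ Subgroup.normalizer (R : Set G))) = Nat.card X := by
  have hpos : 0 < Nat.card (Sylow p X) := Nat.card_pos
  refine Nat.eq_of_mul_eq_mul_left hpos ?_
  rw [Finset.mul_sum, Finset.sum_congr rfl fun R hR => maxSet_mul hR, Finset.sum_const, smul_eq_mul, card_maxSet]

/-- The elements of `X` normalizing `H`. -/
noncomputable def normFin (X H : Subgroup G) : Finset G :=
  (Set.toFinite ((X ⊓ Subgroup.normalizer (H : Set G) : Subgroup G) : Set G)).toFinset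

theorem card_normFin (X H : Subgroup G) :
    (normFin X H).card = Nat.card ↥(X ⊓ Subgroup.normalizer (H : Set G)) := by
  rw [normFin, ← Nat.card_eq_card_finite_toFinset]
  rfl

/-- Exchange of the two sums. -/
theorem sum_swap (X H : Subgroup G) (S : Finset G) (T : Finset (Subgroup G))
    (hST : ∀ g L, g ∈ S ∧ L ∈ (above p X g H).erase H ↔ L ∈ T ∧ g ∈ normFin X L) :
    (∑ g ∈ S, ∑ L ∈ (above p X g H).erase H, mu p X g L) = ∑ L ∈ T, ∑ g ∈ normFin X L, mu p X g L :=
  Finset.sum_comm' fun g L => (hST g L).trans and_comm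

theorem sum_mu_normalizer : ∀ (k : ℕ) (X H : Subgroup G), Nat.card G - Nat.card H = k → H ≤ X → IsPGroup p H →
    (∑ g ∈ normFin X H, mu p X g H) =
      if IsMaxP p X H then (Nat.card ↥(X ⊓ Subgroup.normalizer (H : Set G)) : ℤ) else 0 := by
  intro k
  induction k using Nat.strong_induction_on with
  | _ k ih =>
    intro X H hk hHX hH
    split_ifs with hmax
    · rw [Finset.sum_congr rfl (g := fun _ => (1 : ℤ)) fun g _ => ?_, Finset.sum_const, card_normFin, nsmul_one]
      rw [mu_eq, Finset.sum_eq_zero, sub_zero]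
      intro L hL
      obtain ⟨hne, hL'⟩ := Finset.mem_erase.1 hL
      obtain ⟨h1, h2, h3, -⟩ := mem_above.1 hL'
      exact absurd (hmax L h1 h2 h3) hne
    · set Y := X ⊓ Subgroup.normalizer (H : Set G) with hY
      have hHY : H ≤ Y := le_inf hHX Subgroup.le_normalizer
      have hYY : normFin Y H = normFin X H := by
        unfold normFin
        congr 2
        rw [hY, inf_assoc, inf_idem]
      have hnot : ¬ IsMaxP p Y H := by
        unfold IsMaxP at hmax ⊢
        push Not at hmax ⊢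
        obtain ⟨L, hHL, hLX, hLp, hne⟩ := hmax
        exact ⟨L ⊓ Subgroup.normalizer (H : Set G), le_inf hHL Subgroup.le_normalizer, inf_le_inf_right _ hLX,
          hLp.to_le inf_le_left, (lt_inf_normalizer hLp (lt_of_le_of_ne hHL (Ne.symm hne))).ne'⟩
      rw [Finset.sum_congr rfl (g := fun g => 1 - ∑ L ∈ (above p Y g H).erase H, mu p Y g L) fun g hg => by
        rw [← mu_eq]
        exact (mu_inf_normalizer hHX hH ((Set.Finite.mem_toFinset _).1 hg)).symm]
      rw [Finset.sum_sub_distrib, sum_swap Y H _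
        ((Set.toFinite {R : Subgroup G | H < R ∧ R ≤ Y ∧ IsPGroup p R}).toFinset) ?_]
      swap
      · intro g L
        simp only [normFin, Set.Finite.mem_toFinset, Set.mem_ofPred_eq, Finset.mem_erase, mem_above, SetLike.mem_coe,
          Subgroup.mem_inf]
        constructor
        · rintro ⟨hg, hne, hle, hLY, hLp, hgL⟩
          exact ⟨⟨lt_of_le_of_ne hle (Ne.symm hne), hLY, hLp⟩, hg, hgL⟩
        · rintro ⟨⟨hlt, hLY, hLp⟩, hg, hgL⟩
          exact ⟨hg, hlt.ne', hlt.le, hLY, hLp, hgL⟩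
      have hh : ∀ R ∈ (Set.toFinite {R : Subgroup G | H < R ∧ R ≤ Y ∧ IsPGroup p R}).toFinset,
          (∑ g ∈ normFin Y R, mu p Y g R) =
            if IsMaxP p Y R then (Nat.card ↥(Y ⊓ Subgroup.normalizer (R : Set G)) : ℤ) else 0 := by
        intro R hR
        obtain ⟨hlt, hRY, hRp⟩ := (Set.Finite.mem_toFinset _).1 hR
        exact ih _ (hk ▸ card_lt_of_lt hlt) Y R rfl hRY hRp
      rw [Finset.sum_congr rfl hh]
      rw [Finset.sum_ite, Finset.sum_const_zero, add_zero, Finset.sum_const, card_normFin, nsmul_one, ← Nat.cast_sum]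
      have hset : ((Set.toFinite {R : Subgroup G | H < R ∧ R ≤ Y ∧ IsPGroup p R}).toFinset).filter
          (fun R => IsMaxP p Y R) = maxSet p Y := by
        ext R
        simp only [Finset.mem_filter, Set.Finite.mem_toFinset, Set.mem_ofPred_eq, mem_maxSet]
        constructor
        · rintro ⟨⟨-, h1, h2⟩, h3⟩
          exact ⟨h1, h2, h3⟩
        · rintro ⟨h1, h2, h3⟩
          have hHR : H ≤ R := by
            have := h3 (R ⊔ H) le_sup_left (sup_le h1 hHY)
              (IsPGroup.to_sup_of_normal_right' h2 hH (h1.trans inf_le_right))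
            exact le_sup_right.trans this.le
          exact ⟨⟨lt_of_le_of_ne hHR (by rintro rfl; exact hnot h3), h1, h2⟩, h3⟩
      rw [hset, sum_card_normalizer, hY, sub_self]

/-- The counting theorem. -/
theorem count_invariant {H : Subgroup G} (hH : IsPGroup p H) (P : Sylow p G) :
    Nat.card {g : G // ∃ L : Subgroup G, H ≤ L ∧ IsPGroup p L ∧ g ∈ Subgroup.normalizer (L : Set G)} =
      Nat.card {Q : Sylow p G // H ≤ (Q : Subgroup G)} * Nat.card (Subgroup.normalizer ((P : Subgroup G) : Set G)) := by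
  haveI := Fintype.ofFinite G
  haveI := Fintype.ofFinite (Subgroup G)
  haveI := Fintype.ofFinite (Sylow p G)
  have hcount : (Nat.card {g : G // ∃ L : Subgroup G, H ≤ L ∧ IsPGroup p L ∧ g ∈ Subgroup.normalizer (L : Set G)} : ℤ) =
      ∑ g : G, ∑ L ∈ above p ⊤ g H, mu p ⊤ g L := by
    rw [Nat.card_eq_fintype_card, Fintype.card_subtype, Finset.card_filter, Nat.cast_sum]
    refine Finset.sum_congr rfl fun g _ => ?_
    split_ifs with h
    · obtain ⟨L, h1, h2, h3⟩ := h
      rw [sum_mu ⟨L, mem_above.2 ⟨h1, le_top, h2, h3⟩⟩, Nat.cast_one]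
    · rw [Finset.eq_empty_of_forall_notMem (s := above p ⊤ g H) fun L hL =>
        h ⟨L, (mem_above.1 hL).1, (mem_above.1 hL).2.2⟩, Finset.sum_empty, Nat.cast_zero]
  rw [Finset.sum_comm' (t' := Finset.univ.filter fun L : Subgroup G => H ≤ L ∧ IsPGroup p L)
    (s' := fun L => normFin ⊤ L) (fun g L => by simp [mem_above, normFin, and_comm, and_left_comm, and_assoc])] at hcount
  rw [Finset.sum_congr rfl fun L hL => sum_mu_normalizer _ ⊤ L rfl le_top (Finset.mem_filter.1 hL).2.2] at hcount
  rw [Finset.sum_ite, Finset.sum_const_zero, add_zero, ← Nat.cast_sum] at hcount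
  rw [Int.ofNat.inj hcount]
  have himg : (Finset.univ.filter fun L : Subgroup G => H ≤ L ∧ IsPGroup p L).filter (IsMaxP p ⊤) =
      Finset.image (fun Q : Sylow p G => (Q : Subgroup G))
        (Finset.univ.filter fun Q : Sylow p G => H ≤ (Q : Subgroup G)) := by
    ext L
    simp only [Finset.mem_filter, Finset.mem_univ, true_and, Finset.mem_image]
    constructor
    · rintro ⟨⟨hHL, hLp⟩, hmax⟩
      obtain ⟨Q, hQ⟩ := hLp.exists_le_sylow
      have h := hmax Q hQ le_top Q.isPGroup'
      exact ⟨Q, hHL.trans hQ, h⟩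
    · rintro ⟨Q, hQ, rfl⟩
      exact ⟨⟨hQ, Q.isPGroup'⟩, fun L h1 _ h2 => Q.3 h2 h1⟩
  rw [himg, Finset.sum_image fun Q _ Q' _ h => Sylow.ext h, Finset.sum_congr rfl (g := fun _ =>
    Nat.card (Subgroup.normalizer ((P : Subgroup G) : Set G))) fun Q _ => ?_, Finset.sum_const, smul_eq_mul,
    ← Fintype.card_subtype, ← Nat.card_eq_fintype_card]
  rw [top_inf_eq]
  have hQ := Q.card_eq_index_normalizer
  have hP := P.card_eq_index_normalizer
  have h1 := Subgroup.index_mul_card (Subgroup.normalizer ((Q : Subgroup G) : Set G))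
  have h2 := Subgroup.index_mul_card (Subgroup.normalizer ((P : Subgroup G) : Set G))
  rw [show (Subgroup.normalizer ((Q : Subgroup G) : Set G)).index = Nat.card (Sylow p G) from hQ.symm] at h1
  rw [show (Subgroup.normalizer ((P : Subgroup G) : Set G)).index = Nat.card (Sylow p G) from hP.symm, ← h1] at h2
  exact (Nat.eq_of_mul_eq_mul_left Nat.card_pos h2).symm

end Cfsg.Agent.SubnormalizerCount
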